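import Mathlib
import Cfsg.Agent.Lib.CNGroup
import Cfsg.Agent.Lib.Blocks.PPart

/-! Abelian Sylow subgroups of groups with a nilpotent minimal cover. -/

set_option autoImplicit false

namespace CfsgLib.FG3NilCover

universe u

variable {G : Type u} [Group G] [Finite G] {p : ℕ}

theorem mem_sylow_of_normalizes [hp : Fact p.Prime] (P : Sylow p G) {x : G}
    (hx : x ∈ Subgroup.normalizer ((P : Subgroup G) : Set G)) (hxo : ∃ k, orderOf x = p ^ k) : x ∈ (P : Subgroup G) := by
  obtain ⟨k, hk⟩ := hxo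
  have hz : IsPGroup p (Subgroup.zpowers x) := IsPGroup.of_card (n := k) (by rw [Nat.card_zpowers, hk])
  have hle : Subgroup.zpowers x ≤ Subgroup.normalizer ((P : Subgroup G) : Set G) := Subgroup.zpowers_le.2 hx
  have h := hz.to_sup_of_normal_right' P.2 hle
  have := P.3 h le_sup_right
  rw [← this]
  exact Subgroup.mem_sup_left (Subgroup.mem_zpowers x)

theorem main [hp : Fact p.Prime] (hZ : Subgroup.center G = ⊥) (𝓐 : Finset (Subgroup G))
    (h𝓐 : ((∀ A ∈ 𝓐, A ≠ ⊤) ∧ (∀ g : G, ∃ A ∈ 𝓐, g ∈ A)) ∧ (∀ 𝓑 : Finset (Subgroup G), (∀ A ∈ 𝓑, A ≠ ⊤) ∧ (∀ g : G, ∃ A ∈ 𝓑, g ∈ A) → 𝓐.card ≤ 𝓑.card) ∧ (∀ A ∈ 𝓐, Group.IsNilpotent ↥A))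
    (P : Sylow p G) (hab : ∀ a ∈ (P : Subgroup G), ∀ b ∈ (P : Subgroup G), a * b = b * a)
    (hnn : ¬ (P : Subgroup G).Normal)
    (hcase : (∃ g, g ^ p = 1 ∧ (P : Subgroup G) = Subgroup.zpowers g) ∨ ∃ x ∈ (P : Subgroup G), x ^ p ≠ 1) :
    ∃ A ∈ 𝓐, (P : Subgroup G) ≤ A ∧ Subgroup.centralizer ((P : Subgroup G) : Set G) = A ∧
      (∀ M : Subgroup G, M ≠ ⊤ → A ≤ M → M ≤ Subgroup.normalizer ((P : Subgroup G) : Set G)) ∧
      (∀ g : G, g ∉ Subgroup.normalizer ((P : Subgroup G) : Set G) →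
        ¬ p ∣ Nat.card ↥(Subgroup.normalizer ((P : Subgroup G) : Set G) ⊓
          (Subgroup.normalizer ((P : Subgroup G) : Set G)).map (MulAut.conj g).toMonoidHom)) := by
  classical
  obtain ⟨⟨hprop, hcov⟩, hmin, hnil⟩ := h𝓐
  -- a member is inside the centralizer of each of its p-elements
  have hBC : ∀ B ∈ 𝓐, ∀ w ∈ B, (∃ k, orderOf w = p ^ k) → B ≤ Subgroup.centralizer ({w} : Set G) := by
    intro B hB w hw hwo z hz
    rw [Subgroup.mem_centralizer_singleton_iff]
    obtain ⟨x, y, hxy, hc, hx, hy⟩ := CfsgLib.Blocks.exists_pPart hp.out z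
    obtain ⟨t, ht⟩ := CfsgLib.Blocks.pPart_eq_pow hp.out hxy hc hx hy
    have hxB : x ∈ B := ht ▸ B.pow_mem hz t
    have hyB : y ∈ B := by
      have : y = x⁻¹ * z := by rw [← hxy, inv_mul_cancel_left]
      rw [this]; exact B.mul_mem (B.inv_mem hxB) hz
    obtain ⟨k, hk⟩ := hwo
    have c1 : y * w = w * y := CfsgLib.CNGroup.commute_of_coprime (hnil B hB) hyB hw
      (by rw [hk]; exact Nat.Coprime.pow_right _ ((Nat.Prime.coprime_iff_not_dvd hp.out).mpr hy).symm)
    have c2 : x * w = w * x := by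
      obtain ⟨R⟩ : Nonempty (Sylow p B) := inferInstance
      haveI := CfsgLib.CNGroup.sylow_normal (hnil B hB) R
      have hR : ∀ a (ha : a ∈ B), (∃ k, orderOf a = p ^ k) → a ∈ (R : Subgroup B).map B.subtype := by
        intro a ha hao
        obtain ⟨j, hj⟩ := hao
        exact ⟨⟨a, ha⟩, mem_sylow_of_normalizes R (by rw [Subgroup.normalizer_eq_top]; trivial)
          ⟨j, by rw [Subgroup.orderOf_mk]; exact hj⟩, rfl⟩
      obtain ⟨Q, hQ⟩ := (R.2.map B.subtype).exists_le_sylow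
      obtain ⟨g, hg⟩ := MulAction.exists_smul_eq G P Q
      have hQab : ∀ a ∈ (Q : Subgroup G), ∀ b ∈ (Q : Subgroup G), a * b = b * a := by
        intro a ha b hb
        rw [← hg, Sylow.coe_subgroup_smul, Subgroup.mem_smul_pointwise_iff_exists] at ha hb
        obtain ⟨a, ha, rfl⟩ := ha
        obtain ⟨b, hb, rfl⟩ := hb
        rw [← smul_mul', ← smul_mul', hab a ha b hb]
      exact hQab x (hQ (hR x hxB hx)) w (hQ (hR w hw ⟨k, hk⟩))
    rw [← hxy]
    calc x * y * w = x * (w * y) := by rw [mul_assoc, c1]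
      _ = (x * w) * y := (mul_assoc _ _ _).symm
      _ = (w * x) * y := by rw [c2]
      _ = w * (x * y) := mul_assoc _ _ _
  have hCne : ∀ w : G, w ≠ 1 → Subgroup.centralizer ({w} : Set G) ≠ ⊤ := by
    intro w hw h
    apply hw
    rw [← Subgroup.mem_bot, ← hZ, Subgroup.mem_center_iff]
    intro g
    have : g ∈ Subgroup.centralizer ({w} : Set G) := by rw [h]; trivial
    exact Subgroup.mem_centralizer_singleton_iff.1 this
  -- two members cannot lie in one proper subgroup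
  have hpair : ∀ B₁ ∈ 𝓐, ∀ B₂ ∈ 𝓐, ∀ M : Subgroup G, M ≠ ⊤ → B₁ ≤ M → B₂ ≤ M → B₁ = B₂ := by
    intro B₁ h1 B₂ h2 M hM l1 l2
    by_contra hne
    have := hmin (insert M ((𝓐.erase B₁).erase B₂)) ⟨fun A hA => by
        rcases Finset.mem_insert.1 hA with rfl | hA
        · exact hM
        · exact hprop A (Finset.mem_of_mem_erase (Finset.mem_of_mem_erase hA)),
      fun g => by
        obtain ⟨A, hA, hgA⟩ := hcov g
        by_cases e1 : A = B₁
        · exact ⟨M, Finset.mem_insert_self _ _, l1 (e1 ▸ hgA)⟩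
        by_cases e2 : A = B₂
        · exact ⟨M, Finset.mem_insert_self _ _, l2 (e2 ▸ hgA)⟩
        exact ⟨A, Finset.mem_insert_of_mem (Finset.mem_erase.2 ⟨e2, Finset.mem_erase.2 ⟨e1, hA⟩⟩), hgA⟩⟩
    have h2' : B₂ ∈ 𝓐.erase B₁ := Finset.mem_erase.2 ⟨Ne.symm hne, h2⟩
    have c1 := Finset.card_erase_add_one h1
    have c2 := Finset.card_erase_add_one h2'
    have c3 := Finset.card_insert_le M ((𝓐.erase B₁).erase B₂)
    omega
  have huniq : ∀ w : G, w ≠ 1 → (∃ k, orderOf w = p ^ k) → ∀ B₁ ∈ 𝓐, w ∈ B₁ → ∀ B₂ ∈ 𝓐, w ∈ B₂ → B₁ = B₂ :=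
    fun w hw hwo B₁ h1 w1 B₂ h2 w2 => hpair B₁ h1 B₂ h2 _ (hCne w hw) (hBC B₁ h1 w w1 hwo) (hBC B₂ h2 w w2 hwo)
  have hPo : ∀ y ∈ (P : Subgroup G), ∃ k, orderOf y = p ^ k := by
    intro y hy
    obtain ⟨k, hk⟩ := IsPGroup.iff_orderOf.1 P.2 ⟨y, hy⟩
    exact ⟨k, by rw [← hk, Subgroup.orderOf_mk]⟩
  have hPbot : (P : Subgroup G) ≠ ⊥ := fun h => hnn (by rw [h]; infer_instance)
  -- a member containing P
  obtain ⟨A, hA, hPA⟩ : ∃ A ∈ 𝓐, (P : Subgroup G) ≤ A := by
    rcases hcase with ⟨g, -, hPg⟩ | ⟨x, hx, hxp⟩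
    · obtain ⟨A, hA, hgA⟩ := hcov g
      exact ⟨A, hA, by rw [hPg]; exact Subgroup.zpowers_le.2 hgA⟩
    · obtain ⟨k, hk⟩ := hPo x hx
      have hk2 : 2 ≤ k := by
        by_contra h
        apply hxp
        interval_cases k
        · rw [pow_zero, orderOf_eq_one_iff] at hk; rw [hk, one_pow]
        · rw [pow_one] at hk; rw [← hk, pow_orderOf_eq_one]
      obtain ⟨u, hu⟩ : ∃ u, u = x ^ p ^ (k - 1) := ⟨_, rfl⟩
      have hu1 : u ≠ 1 := by
        rw [hu]
        intro h
        have := Nat.le_of_dvd (pow_pos hp.out.pos _) (orderOf_dvd_of_pow_eq_one h)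
        rw [hk] at this
        have := Nat.pow_lt_pow_right hp.out.one_lt (show k - 1 < k by omega)
        omega
      have huP : u ∈ (P : Subgroup G) := hu ▸ pow_mem hx _
      obtain ⟨A, hA, huA⟩ := hcov u
      have hxv : ∀ v ∈ (P : Subgroup G), v ^ p ^ (k - 1) = 1 → x * v ∈ A := by
        intro v hv hv1
        obtain ⟨B, hB, hxvB⟩ := hcov (x * v)
        have : u ∈ B := by
          have := B.pow_mem hxvB (p ^ (k - 1))
          rwa [(show Commute x v from hab x hx v hv).mul_pow, hv1, mul_one, ← hu] at this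
        rw [huniq u hu1 (hPo u huP) A hA huA B hB this]
        exact hxvB
      have hxA : x ∈ A := by simpa using hxv 1 (one_mem _) (one_pow _)
      have hsoc : ∀ v ∈ (P : Subgroup G), v ^ p = 1 → v ∈ A := by
        intro v hv hvp
        have h := hxv v hv (by
          rw [show k - 1 = (k - 2) + 1 by omega, pow_succ', pow_mul, hvp, one_pow])
        simpa using A.mul_mem (A.inv_mem hxA) h
      refine ⟨A, hA, fun y hy => ?_⟩
      obtain ⟨j, hj⟩ := hPo y hy
      rcases Nat.eq_zero_or_pos j with rfl | hj0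
      · rw [pow_zero, orderOf_eq_one_iff] at hj; rw [hj]; exact one_mem _
      obtain ⟨v, hv⟩ : ∃ v, v = y ^ p ^ (j - 1) := ⟨_, rfl⟩
      have hv1 : v ≠ 1 := by
        rw [hv]
        intro h
        have := Nat.le_of_dvd (pow_pos hp.out.pos _) (orderOf_dvd_of_pow_eq_one h)
        rw [hj] at this
        have := Nat.pow_lt_pow_right hp.out.one_lt (show j - 1 < j by omega)
        omega
      have hvP : v ∈ (P : Subgroup G) := hv ▸ pow_mem hy _
      have hvp : v ^ p = 1 := by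
        rw [hv, ← pow_mul, ← pow_succ, show j - 1 + 1 = j by omega, ← hj, pow_orderOf_eq_one]
      obtain ⟨B, hB, hyB⟩ := hcov y
      rw [huniq v hv1 (hPo v hvP) A hA (hsoc v hvP hvp) B hB (hv ▸ B.pow_mem hyB _)]
      exact hyB
  have hAC : A ≤ Subgroup.centralizer ((P : Subgroup G) : Set G) := by
    intro z hz y hy
    exact (Subgroup.mem_centralizer_singleton_iff.1 (hBC A hA y (hPA hy) (hPo y hy) hz)).symm
  have hCw : ∀ w ∈ (P : Subgroup G), w ≠ 1 → Subgroup.centralizer ({w} : Set G) = A := by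
    intro w hw hw1
    refine le_antisymm ?_ (hBC A hA w (hPA hw) (hPo w hw))
    suffices hD : A.subgroupOf (Subgroup.centralizer ({w} : Set G)) = ⊤ from Subgroup.subgroupOf_eq_top.1 hD
    rw [← Subgroup.index_eq_one]
    by_contra hne
    obtain ⟨r, hr, hrd⟩ := Nat.exists_prime_and_dvd hne
    by_cases hrp : r = p
    · subst hrp
      exact P.not_dvd_index ((hrd.trans (Subgroup.relIndex_dvd_index_of_le
        (hBC A hA w (hPA hw) (hPo w hw)))).trans (Subgroup.index_dvd_of_le hPA))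
    haveI : Fact r.Prime := ⟨hr⟩
    obtain ⟨R⟩ : Nonempty (Sylow r (Subgroup.centralizer ({w} : Set G))) := inferInstance
    refine R.not_dvd_index (hrd.trans (Subgroup.index_dvd_of_le fun g hg => ?_))
    rw [Subgroup.mem_subgroupOf]
    obtain ⟨i, hi⟩ := IsPGroup.iff_orderOf.1 R.2 ⟨g, hg⟩
    rw [Subgroup.orderOf_mk, ← Subgroup.orderOf_coe] at hi
    have hc : Commute w (g : G) := (Subgroup.mem_centralizer_singleton_iff.1 g.2).symm
    have hy : ¬ p ∣ orderOf (g : G) := by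
      rw [hi]
      intro h
      exact hrp ((Nat.prime_dvd_prime_iff_eq hp.out hr).1 (hp.out.dvd_of_dvd_pow h)).symm
    obtain ⟨B, hB, hB'⟩ := hcov (w * g)
    obtain ⟨t, ht⟩ := CfsgLib.Blocks.pPart_eq_pow hp.out rfl hc (hPo w hw) hy
    have hwB : w ∈ B := ht ▸ B.pow_mem hB' t
    rw [huniq w hw1 (hPo w hw) A hA (hPA hw) B hB hwB]
    simpa using B.mul_mem (B.inv_mem hwB) hB'
  obtain ⟨u, huP, hu1⟩ : ∃ u ∈ (P : Subgroup G), u ≠ 1 := (Subgroup.ne_bot_iff_exists_ne_one.1 hPbot).elim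
    fun a ha => ⟨a, a.2, fun h => ha (Subtype.ext h)⟩
  have hCA : Subgroup.centralizer ((P : Subgroup G) : Set G) = A := by
    refine le_antisymm (fun z hz => ?_) hAC
    rw [← hCw u huP hu1, Subgroup.mem_centralizer_singleton_iff]
    exact (hz u huP).symm
  -- elements carrying a nontrivial element of P into P normalize P
  have hfus : ∀ m : G, ∀ w ∈ (P : Subgroup G), w ≠ 1 → (m * w * m⁻¹) ∈ A → m ∈ Subgroup.normalizer ((P : Subgroup G) : Set G) := by
    intro m w hw hw1 hwA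
    have hwo : ∃ k, orderOf (m * w * m⁻¹) = p ^ k := by
      obtain ⟨k, hk⟩ := hPo w hw
      exact ⟨k, by rw [← hk]; exact orderOf_injective (MulAut.conj m).toMonoidHom (MulAut.conj m).injective w⟩
    have hwP : m * w * m⁻¹ ∈ (P : Subgroup G) :=
      mem_sylow_of_normalizes P (Subgroup.centralizer_le_normalizer _ (hAC hwA)) hwo
    have hne : m * w * m⁻¹ ≠ 1 := fun h => hw1 (by simpa [mul_assoc] using congrArg (fun t => m⁻¹ * t * m) h)
    have hAA : ∀ z, z ∈ A ↔ m⁻¹ * z * m ∈ A := by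
      intro z
      conv_rhs => rw [← hCw w hw hw1]
      conv_lhs => rw [← hCw _ hwP hne]
      rw [Subgroup.mem_centralizer_singleton_iff, Subgroup.mem_centralizer_singleton_iff]
      constructor
      · intro h
        have := congrArg (fun t => m⁻¹ * t * m) h
        simpa [mul_assoc] using this
      · intro h
        have := congrArg (fun t => m * t * m⁻¹) h
        simpa [mul_assoc] using this
    rw [Subgroup.mem_normalizer_iff'']
    intro z
    constructor
    · intro hz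
      refine mem_sylow_of_normalizes P (Subgroup.centralizer_le_normalizer _ (hAC ((hAA z).1 (hPA hz)))) ?_
      obtain ⟨k, hk⟩ := hPo z hz
      exact ⟨k, by rw [← hk]; simpa using orderOf_injective (MulAut.conj m⁻¹).toMonoidHom (MulAut.conj m⁻¹).injective z⟩
    · intro hz
      refine mem_sylow_of_normalizes P (Subgroup.centralizer_le_normalizer _ (hAC ((hAA z).2 (hPA hz)))) ?_
      obtain ⟨k, hk⟩ := hPo _ hz
      exact ⟨k, by rw [← hk]; simpa using (orderOf_injective (MulAut.conj m⁻¹).toMonoidHom (MulAut.conj m⁻¹).injective z).symm⟩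
  refine ⟨A, hA, hPA, hCA, ?_, ?_⟩
  · intro M hM hAM m hm
    by_contra hmN
    obtain ⟨k, hk⟩ := hPo u huP
    obtain ⟨B, hB, hwB⟩ := hcov (m * u * m⁻¹)
    have hne : m * u * m⁻¹ ≠ 1 := fun h => hu1 (by simpa [mul_assoc] using congrArg (fun t => m⁻¹ * t * m) h)
    have hwo : ∃ k, orderOf (m * u * m⁻¹) = p ^ k :=
      ⟨k, by rw [← hk]; exact orderOf_injective (MulAut.conj m).toMonoidHom (MulAut.conj m).injective u⟩
    have hBM : B ≤ M := by
      intro z hz
      have h1 := Subgroup.mem_centralizer_singleton_iff.1 (hBC B hB _ hwB hwo hz)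
      have h2 : m⁻¹ * z * m ∈ A := by
        rw [← hCw u huP hu1, Subgroup.mem_centralizer_singleton_iff]
        have := congrArg (fun t => m⁻¹ * t * m) h1
        simpa [mul_assoc] using this
      simpa [mul_assoc] using M.mul_mem (M.mul_mem hm (hAM h2)) (M.inv_mem hm)
    exact hmN (hfus m u huP hu1 ((hpair A hA B hB M hM hAM hBM).symm ▸ hwB))
  · intro g hg hdvd
    apply hg
    obtain ⟨⟨t, ht⟩, hto⟩ := exists_prime_orderOf_dvd_card' p hdvd
    rw [Subgroup.orderOf_mk] at hto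
    obtain ⟨htN, s, hs, hst⟩ := ht
    have hst' : g * s * g⁻¹ = t := by simpa using hst
    have hso : orderOf s = p := by
      rw [← hto, ← hst']
      exact (orderOf_injective (MulAut.conj g).toMonoidHom (MulAut.conj g).injective s).symm
    have hs1 : s ≠ 1 := by rintro rfl; rw [orderOf_one] at hso; exact hp.out.ne_one hso.symm
    refine hfus g s (mem_sylow_of_normalizes P hs ⟨1, by rw [hso, pow_one]⟩) hs1 ?_
    rw [hst']
    exact hPA (mem_sylow_of_normalizes P htN ⟨1, by rw [hto, pow_one]⟩)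

end CfsgLib.FG3NilCover
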